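import Groth.Agent.InertiaFinLib.Lift
import Groth.Agent.AlgSpLib.FiniteNhd
import Groth.Agent.AlgStLib.Substack

/-!
# Finiteness of the inertia over an etale chart
-/

set_option autoImplicit false
set_option backward.isDefEq.respectTransparency false
set_option backward.isDefEq.respectTransparency.types false

universe u

open CategoryTheory CategoryTheory.Functor CategoryTheory.Limits AlgebraicGeometry Opposite AlgSp FibCat FibLib AlgSpLib AlgStLib

noncomputable section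

namespace InertiaFinLib

variable {S : Scheme.{u}} {𝒰 𝒳 : AlgSt.Cat S} (h : 𝒰 ⥤ᵇ 𝒳)

/-- The map on inertia over the base. -/
def inertiaMap : inertia (toSelf 𝒰) ⥤ᵇ inertia (toSelf 𝒳) where
  toFunctor :=
    { obj := fun x => ⟨h.obj x.pt, h.toFunctor.mapIso x.aut, by
        change 𝒳.p.map (h.map x.aut.hom) = 𝟙 _
        have hx : 𝒰.p.map x.aut.hom = 𝟙 (𝒰.p.obj x.pt) := x.map_aut
        have := Functor.congr_hom h.w x.aut.hom
        simp only [Functor.comp_map, hx, Category.id_comp, eqToHom_trans, eqToHom_refl] at this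
        exact this⟩
      map := fun {a b} f => ⟨h.map f.hom, by
        change h.map _ ≫ h.map _ = h.map _ ≫ h.map _
        rw [← h.toFunctor.map_comp, ← h.toFunctor.map_comp, f.comm]⟩
      map_id := fun a => InertiaObj.hom_ext (h.toFunctor.map_id a.pt)
      map_comp := fun f g => InertiaObj.hom_ext (h.toFunctor.map_comp f.hom g.hom) }
  w := congrArg (fun F => InertiaObj.forget ⋙ F) h.w

/-- The inertia of the source inside the base change of the inertia of the target. -/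
def inertiaComp : inertia (toSelf 𝒰) ⥤ᵇ fp h (inertiaToBase (toSelf 𝒳)) :=
  fpLift (inertiaToBase (toSelf 𝒰)) (inertiaMap h) (Iso.refl _)

variable {h} [IsFibGrpd 𝒰.p] [IsFibGrpd 𝒳.p]

theorem isEquivOver_inertiaComp (hh : AlgSt.RepByAlgSpWith IsEtaleMor h)
    (hsurj : ∀ (Ω : Type u) [Field Ω] [IsAlgClosed Ω] (t : Spec (CommRingCat.of Ω) ⟶ S)
      (z : 𝒰.p.Fiber (Over.mk t)), Function.Surjective (Gerb.autMap h z.1)) :
    IsEquivOver (inertiaComp h) := by
  haveI := faithful_of_repByAlgSp1 (repByAlgSp1_of_with hh)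
  haveI : (inertiaComp h).toFunctor.Faithful := ⟨fun {a b} x y e => InertiaObj.hom_ext
    (congrArg (fun t => t.hom.fst) e)⟩
  haveI : (inertiaComp h).toFunctor.Full := ⟨fun {a b} k => by
    have w := k.hom.w
    change h.map k.hom.fst ≫ 𝟙 _ = 𝟙 _ ≫ k.hom.snd.hom at w
    erw [Category.comp_id, Category.id_comp] at w
    have hc := k.hom.snd.comm
    refine ⟨⟨k.hom.fst, h.toFunctor.map_injective ?_⟩, fp_hom_ext rfl (InertiaObj.hom_ext ?_)⟩
    · rw [h.toFunctor.map_comp, h.toFunctor.map_comp, w]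
      exact hc
    · exact w⟩
  refine isEquivOver_of_vertEssSurj _ fun ξ => ?_
  obtain ⟨⟨z, A, i⟩, hi⟩ := ξ
  have hA : 𝒳.p.map A.aut.hom = 𝟙 (𝒳.p.obj A.pt) := A.map_aut
  have hσ : 𝒳.p.map (i ≪≫ A.aut ≪≫ i.symm).hom = 𝟙 _ := by
    rw [Iso.trans_hom, Iso.trans_hom, Iso.symm_hom, Functor.map_comp, Functor.map_comp, hA]
    erw [Category.id_comp, ← Functor.map_comp, Iso.hom_inv_id, CategoryTheory.Functor.map_id]
  obtain ⟨α, hα₁, hα₂⟩ := exists_lift_aut hh hsurj z (i ≪≫ A.aut ≪≫ i.symm) hσ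
  let o : (inertia (toSelf 𝒰)).obj := ⟨z, α, hα₁⟩
  let j : (inertiaMap h).obj o ≅ A :=
    { hom := ⟨i.hom, by
        change h.map α.hom ≫ i.hom = i.hom ≫ A.aut.hom
        rw [hα₂]
        simp only [Iso.trans_hom, Iso.symm_hom, Category.assoc]
        exact congrArg (fun t => i.hom ≫ A.aut.hom ≫ t) i.inv_hom_id |>.trans (by erw [Category.comp_id])⟩
      inv := ⟨i.inv, by
        change A.aut.hom ≫ i.inv = i.inv ≫ h.map α.hom
        rw [hα₂]
        exact (i.inv_hom_id_assoc _).symm⟩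
      hom_inv_id := InertiaObj.hom_ext i.hom_inv_id
      inv_hom_id := InertiaObj.hom_ext i.inv_hom_id }
  let k : (inertiaComp h).obj o ≅ _ :=
    fpIsoMk (x := (inertiaComp h).obj o) (y := ⟨⟨z, A, i⟩, hi⟩) (Iso.refl _) j (by
      change h.map (𝟙 _) ≫ i.hom = 𝟙 _ ≫ i.hom
      rw [h.toFunctor.map_id])
  refine ⟨o, k, ?_⟩
  haveI : 𝒰.p.IsHomLift (𝟙 (𝒰.p.obj z)) k.hom.hom.fst := IsHomLift.id rfl
  exact isHomLift_of_fst (𝟙 (𝒰.p.obj z)) k.hom

/-- The base change of the inertia of the target to a separated chart is finite. -/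
theorem repByAlgSpWith_fpFst_inertia (hh : AlgSt.RepByAlgSpWith IsEtaleMor h)
    (hsurj : ∀ (Ω : Type u) [Field Ω] [IsAlgClosed Ω] (t : Spec (CommRingCat.of Ω) ⟶ S)
      (z : 𝒰.p.Fiber (Over.mk t)), Function.Surjective (Gerb.autMap h z.1))
    (hsep : AlgSt.IsSeparatedOver 𝒰)
    (hI : AlgSt.RepByAlgSpWith (LocP (@LocallyQuasiFinite ⊓ @LocallyOfFiniteType)) (inertiaToBase (toSelf 𝒳))) :
    AlgSt.RepByAlgSpWith IsFiniteMor (FibCat.fpFst h (inertiaToBase (toSelf 𝒳))) := by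
  let g := FibCat.fpFst h (inertiaToBase (toSelf 𝒳))
  haveI := isFibGrpd_of_repByAlgSp (repByAlgSp_selfOver (S := S))
  haveI : IsFibGrpd (fp (toSelf 𝒰) (toSelf 𝒰)).p := isFibGrpd_fp
  haveI : IsFibGrpd (inertia (toSelf 𝒳)).p :=
    FibLib.isFibGrpd_inertia (FibLib.preservesStronglyCartesian_of_isFibGrpd _)
  haveI : IsFibGrpd (fp h (inertiaToBase (toSelf 𝒳))).p := isFibGrpd_fp
  have hp : AlgSt.RepByAlgSpWith IsProperMor g :=
    (repByAlgSpWith_square_iff (f := g) (f' := inertiaToBase (toSelf 𝒰)) (a := inertiaComp h)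
      (b := BasedFunctor.id _) (isEquivOver_inertiaComp hh hsurj) (isEquivOver_id _) (Iso.refl _) _).mpr
      ((repByAlgSpWith_inertiaToBase_iff (toSelf 𝒰) _).mpr (repByAlgSpWith_fpFst _ _ hsep))
  have hq := repByAlgSpWith_fpFst _ h hI
  exact repByAlgSpWith_of_forall (repByAlgSp1_of_with hp) fun U u H a hH ha =>
    isFiniteMor_of_proper_lqf hH (IsAlgSpace.yon_obj U) (prop_of_along good_proper.bc.precomp_iso hp ha)
      (prop_of_along good_lqf.bc.precomp_iso hq ha)

end InertiaFinLib
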