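import Groth.Agent.AlgStLib.Inertia
import Groth.Agent.AlgStLib.PointsTop
import Groth.Agent.AlgSpLib.EtaleLift
import Groth.Prelude.Def_StGerb2
import Mathlib.FieldTheory.IsAlgClosed.AlgebraicClosure

/-!
# Lifting automorphisms along etale maps which are bijective on geometric stabilisers
-/

set_option autoImplicit false
set_option backward.isDefEq.respectTransparency false
set_option backward.isDefEq.respectTransparency.types false

universe u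

open CategoryTheory CategoryTheory.Functor CategoryTheory.Limits AlgebraicGeometry Opposite AlgSp FibCat FibLib AlgSpLib AlgStLib

noncomputable section

namespace InertiaFinLib

variable {S : Scheme.{u}} {𝒰 𝒳 : AlgSt.Cat S} [IsFibGrpd 𝒰.p] [IsFibGrpd 𝒳.p]

/-- Every vertical automorphism of an image lifts. -/
theorem exists_lift_aut {h : 𝒰 ⥤ᵇ 𝒳} (hh : AlgSt.RepByAlgSpWith IsEtaleMor h)
    (hsurj : ∀ (Ω : Type u) [Field Ω] [IsAlgClosed Ω] (t : Spec (CommRingCat.of Ω) ⟶ S)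
      (z : 𝒰.p.Fiber (Over.mk t)), Function.Surjective (Gerb.autMap h z.1))
    (z : 𝒰.obj) (a : h.obj z ≅ h.obj z) (ha : 𝒳.p.map a.hom = 𝟙 _) :
    ∃ α : z ≅ z, 𝒰.p.map α.hom = 𝟙 _ ∧ h.map α.hom = a.hom := by
  let T : Over S := 𝒰.p.obj z
  haveI : IsFibGrpd (fp h h).p := isFibGrpd_fp
  have hal : 𝒳.p.IsHomLift (𝟙 (𝒰.p.obj z)) a.hom :=
    IsHomLift.of_fac' _ _ _ (h.w_obj z) (h.w_obj z) (by simp [ha])
  let O : (fp h h).obj := fpObj z z a hal
  let P : (fp h h).p.Fiber T := Functor.Fiber.mk (p := (fp h h).p) (a := O) rfl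
  let ξ : AlgSt.ofSch T ⥤ᵇ fp h h := BasedFunctor.comp (AlgSt.toOverCat T) (ofPoint P)
  have hd : AlgSt.RepByAlgSpWith (RepWith @IsOpenImmersion) (diag h) :=
    repByAlgSpWith_diag_of_rep (good_repWith @IsOpenImmersion).bc hh fun K U b hK hb =>
      openImmersion_diagonal_of_isEtaleMor hK (IsAlgSpace.yon_obj U) hb
  obtain ⟨H, b, hH, hb, hbo⟩ := (repByAlgSpWith_iff _ (diag h)).mp hd T ξ
  have hT := IsAlgSpace.yon_obj (S := S) T
  haveI : Mono b := mono_of_openImmersion hbo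
  have hbs : IsSurjectiveMor b := by
    intro y
    obtain ⟨v, hv⟩ := preimage_image_along hb
    suffices hy : ptMap ξ y ∈ Set.range (AlgSt.Points.map (diag h)) by
      have hy' : y ∈ ptMap ξ ⁻¹' (AlgSt.Points.map (diag h) '' Set.univ) := by
        rw [Set.image_univ]; exact hy
      rw [hv] at hy'
      obtain ⟨w, -, hw⟩ := hy'
      exact ⟨w, hw⟩
    obtain ⟨p, hp⟩ := AlgSt.Points.mk_surjective ((ptsEquiv ((yon S).obj T)).symm y)
    rw [ptMap, ← hp, AlgSt.Points.map_mk]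
    let q : AlgSt.FPt (fp h h) := p.map ξ
    let φ : q.obj ⟶ O := IsPreFibered.pullbackMap P.2 ((AlgSt.toOverCat T).obj p.obj).hom
    let d : Over.mk (Spec.map (CommRingCat.ofHom (algebraMap p.K (AlgebraicClosure p.K))) ≫ p.str) ⟶
        Over.mk p.str :=
      Over.homMk (Spec.map (CommRingCat.ofHom (algebraMap p.K (AlgebraicClosure p.K)))) rfl
    obtain ⟨b', ψ₀, hψ₀⟩ := exists_lift (fp h h).p q.lies d
    let ψ : b' ⟶ O := ψ₀ ≫ φ
    have hb' : 𝒰.p.obj b'.obj.fst = Over.mk _ := IsHomLift.domain_eq (fp h h).p d ψ₀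
    let g : 𝒰.p.obj b'.obj.fst ⟶ T := 𝒰.p.map ψ.hom.fst
    haveI : 𝒰.p.IsHomLift g ψ.hom.fst := inferInstanceAs (𝒰.p.IsHomLift (𝒰.p.map ψ.hom.fst) _)
    haveI : 𝒰.p.IsHomLift g ψ.hom.snd := fp_isHomLift_snd h h ψ
    haveI : 𝒰.p.IsStronglyCartesian g ψ.hom.fst :=
      (isStronglyCartesian_map_iff 𝒰.p g ψ.hom.fst).mp (IsFibGrpd.isStronglyCartesian ψ.hom.fst)
    haveI : 𝒰.p.IsStronglyCartesian g ψ.hom.snd :=
      (isStronglyCartesian_map_iff 𝒰.p g ψ.hom.snd).mp (IsFibGrpd.isStronglyCartesian ψ.hom.snd)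
    let j := IsCartesian.domainUniqueUpToIso 𝒰.p g ψ.hom.snd ψ.hom.fst
    haveI : 𝒰.p.IsHomLift (𝟙 (𝒰.p.obj b'.obj.fst)) j.hom :=
      IsCartesian.domainUniqueUpToIso_inv_isHomLift 𝒰.p g ψ.hom.snd ψ.hom.fst
    haveI : 𝒰.p.IsHomLift (𝟙 (𝒰.p.obj b'.obj.fst)) j.inv :=
      IsCartesian.domainUniqueUpToIso_hom_isHomLift 𝒰.p g ψ.hom.snd ψ.hom.fst
    haveI : 𝒳.p.IsHomLift (𝟙 (𝒰.p.obj b'.obj.fst)) b'.obj.iso.hom := b'.property
    haveI := h.preserves_isHomLift (𝟙 (𝒰.p.obj b'.obj.fst)) j.inv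
    let ω : h.obj b'.obj.fst ≅ h.obj b'.obj.fst := b'.obj.iso ≪≫ h.toFunctor.mapIso j.symm
    have hω : 𝒳.p.IsHomLift (𝟙 (𝒰.p.obj b'.obj.fst)) ω.hom := by
      simp only [ω, Iso.trans_hom, Functor.mapIso_hom, Iso.symm_hom]
      infer_instance
    have hω' : 𝒳.p.IsHomLift (𝟙 (𝒳.p.obj (h.obj b'.obj.fst))) ω.hom := by
      rw [show 𝒳.p.obj (h.obj b'.obj.fst) = 𝒰.p.obj b'.obj.fst from h.w_obj _]
      exact hω
    obtain ⟨β, hβ⟩ := hsurj (AlgebraicClosure p.K) _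
      (Functor.Fiber.mk (p := 𝒰.p) hb') (fiberIso 𝒳.p (a := Gerb.fib (h.obj b'.obj.fst))
        (b := Gerb.fib (h.obj b'.obj.fst)) ω hω')
    have hβ' : h.map β.hom.1 = ω.hom := by
      rw [← Gerb.autMap_hom_val (F := h), hβ]
      rfl
    let r : AlgSt.FPt 𝒰 := { K := AlgebraicClosure p.K, str := _, obj := b'.obj.fst, lies := hb' }
    let m : (r.map (diag h)).obj ⟶ b' := fpHom (x := (diag h).obj b'.obj.fst) (y := b')
      (𝟙 b'.obj.fst) (β.hom.1 ≫ j.hom) (by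
        change h.map (𝟙 _) ≫ b'.obj.iso.hom = 𝟙 _ ≫ h.map (β.hom.1 ≫ j.hom)
        rw [h.toFunctor.map_id, h.toFunctor.map_comp, hβ']
        simp [ω])
    refine ⟨AlgSt.Points.mk r, ?_⟩
    exact (mk_eq_of_hom (p := r.map (diag h)) (q := ⟨_, _, b', IsHomLift.domain_eq (fp h h).p d ψ₀⟩) m).trans
      (mk_eq_of_hom (p := ⟨_, _, b', IsHomLift.domain_eq (fp h h).p d ψ₀⟩) (q := q) ψ₀)
  haveI : IsIso b := isIso_of_mono_etale_surjective hH hT b
    (isEtaleMor_of_repWith (repWith_mono (fun _ _ g (_ : IsOpenImmersion g) => (inferInstance : Etale g)) hbo)) hbs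
  obtain ⟨e, -, ⟨γ⟩⟩ := hb
  let s : AlgSt.ofSch T ⥤ᵇ fp ξ (diag h) := BasedFunctor.comp (Stk.ofPshMap (inv b).hom) e
  have hs : Stk.ofPshMap ((inv b).hom ≫ b.hom) = BasedFunctor.id (AlgSt.ofSch T) := by
    rw [show (inv b).hom ≫ b.hom = 𝟙 _ from congrArg (fun t => t.hom) (IsIso.inv_hom_id b), ofPshMap_id]
  let sfst : BasedFunctor.comp s (FibCat.fpFst ξ (diag h)) ≅ BasedFunctor.id _ :=
    whiskerLeftIso' (Stk.ofPshMap (inv b).hom) γ ≪≫
      eqToIso (by rw [← hs, ofPshMap_comp])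
  let o : (AlgSt.ofSch T).obj := ⟨T, ⟨𝟙 T⟩⟩
  obtain ⟨k₀⟩ := nonempty_evalAtId_ofPoint_iso P
  let kO : ξ.obj o ≅ O :=
    ⟨k₀.hom.1, k₀.inv.1, congrArg Subtype.val k₀.hom_inv_id, congrArg Subtype.val k₀.inv_hom_id⟩
  let k : O ≅ (diag h).obj (s.obj o).obj.snd :=
    kO.symm ≪≫ ξ.toFunctor.mapIso (appIso sfst o).symm ≪≫ (s.obj o).obj.iso
  let k₁ : z ≅ (s.obj o).obj.snd := (fpFst h h).toFunctor.mapIso k
  let k₂ : z ≅ (s.obj o).obj.snd := (fpSnd h h).toFunctor.mapIso k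
  refine ⟨k₁ ≪≫ k₂.symm, ?_, ?_⟩
  · have e₁ : 𝒰.p.map k₁.hom = (fp h h).p.map k.hom := rfl
    haveI := fp_isHomLift_snd h h k.hom
    have e₂ : 𝒰.p.map k₂.hom = (fp h h).p.map k.hom :=
      (IsHomLift.fac' 𝒰.p ((fp h h).p.map k.hom) k.hom.hom.snd).trans (by simp)
    rw [Iso.trans_hom, Iso.symm_hom, Functor.map_comp, e₁, ← e₂, ← Functor.map_comp, Iso.hom_inv_id,
      CategoryTheory.Functor.map_id]
  · have w : h.map k₁.hom ≫ 𝟙 _ = a.hom ≫ h.map k₂.hom := k.hom.hom.w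
    erw [Category.comp_id] at w
    rw [Iso.trans_hom, Iso.symm_hom, h.toFunctor.map_comp]
    change h.map k₁.hom ≫ (h.toFunctor.mapIso k₂).inv = _
    rw [w, Category.assoc]
    erw [(h.toFunctor.mapIso k₂).hom_inv_id, Category.comp_id]

end InertiaFinLib
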